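import Cfsg.Agent.S0799
import Cfsg.Agent.Lib.KGroups.AbelianTwo.SLTwo
import Cfsg.Agent.Lib.Classical.Dickson.Data
import Cfsg.Agent.Lib.Classical.Dickson.Ext
import Mathlib.NumberTheory.LSeries.PrimesInAP

/-!
# Orders without a Hall subgroup in some group

If `m` is not a prime power, not `2` modulo `4` and not `12`, `24`, `60`, split `m = pᵃ m'` with `p`
odd.  For a large prime `r` with `pᵃ` exactly dividing `r + 1` and `m'` exactly dividing `r - 1` the
group `PSL(2, r)` has order `m · c` with `c` prime to `m` and, by Dickson's list, no subgroup of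
order `m`.
-/

set_option autoImplicit false
set_option linter.style.haveILetI false
set_option linter.unusedSectionVars false

namespace CfsgLib.GWKlein.Consumers.HallNumbers

open Matrix
open scoped MatrixGroups CfsgLib.Classical.Dickson

/-- A unipotent element commutes with no element of another prime order. -/
theorem not_commute_of_char {F : Type} [Field F] [Fintype F] (r : ℕ) [Fact r.Prime] [CharP F r]
    {x u : ProjectiveSpecialLinearGroup (Fin 2) F} {p : ℕ} (hp : p.Prime) (hpr : p ≠ r)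
    (hx : orderOf x = p) (hu : orderOf u = r) : ¬ Commute x u := by
  classical
  intro hc
  let ι := ProjectiveSpecialLinearGroup.toPGL (n := Fin 2) (R := F)
  have hι : Function.Injective ι := ProjectiveSpecialLinearGroup.toPGL_injective
  have hup : ι u ^ r = 1 := by rw [← map_pow, ← hu, pow_orderOf_eq_one, map_one]
  have hu1 : ι u ≠ 1 := fun e => by
    rw [← map_one ι] at e
    rw [hι e, orderOf_one] at hu
    exact (Fact.out : r.Prime).one_lt.ne hu
  obtain ⟨z, hz⟩ := CfsgLib.Classical.Dickson.exists_fixed_of_unip r hup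
  have hcm : ι x * ι u = ι u * ι x := (hc.map ι).eq
  have hxz : ι x • z = z := CfsgLib.Classical.Dickson.fix_of_unip r hu1 hup hz (by
    rw [← mul_smul, ← hcm, mul_smul, hz])
  refine CfsgLib.Classical.Dickson.not_commute_unip r hu1 hup hz hxz (fun e => ?_) hcm
  rw [← map_pow, ← map_one ι] at e
  have hd := orderOf_dvd_of_pow_eq_one (hι e)
  rw [hx] at hd
  exact hpr ((Nat.prime_dvd_prime_iff_eq hp Fact.out).1 hd)

/-- The arithmetical choice of `r`. -/
theorem exists_prime_split {p a m' : ℕ} (hp : p.Prime) (hp2 : p ≠ 2) (ha : a ≠ 0) (hm' : 2 ≤ m')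
    (hcop : p.Coprime m') (B : ℕ) (hpar : m' % 4 = 0 ∨ Odd m') :
    ∃ r : ℕ, r.Prime ∧ B < r ∧ Odd r ∧ m' ∣ r - 1 ∧ p ^ a ∣ r + 1 ∧
      ∃ c : ℕ, (r - 1) * r * (r + 1) = 2 * (p ^ a * m' * c) ∧ Nat.Coprime (p ^ a * m') c := by
  have hpa : p ≤ p ^ a := Nat.le_self_pow ha p
  have hp3 : 3 ≤ p := by have := hp.two_le; omega
  have hco : Nat.Coprime (m' ^ 2) ((p ^ a) ^ 2) := ((Nat.Coprime.pow_left a hcop).symm).pow 2 2
  obtain ⟨x, hx1, hx2⟩ := Nat.chineseRemainder hco (1 + m') (p ^ a - 1)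
  have hm2 : 1 + m' < m' ^ 2 := by nlinarith
  have hp2' : p ^ a - 1 < (p ^ a) ^ 2 := by
    have : p ^ a ≤ (p ^ a) ^ 2 := Nat.le_self_pow two_ne_zero _
    omega
  have hxc : x.Coprime (m' ^ 2 * (p ^ a) ^ 2) := by
    refine Nat.Coprime.mul_right (Nat.Coprime.pow_right 2 ?_) (Nat.Coprime.pow_right 2 ?_)
    · rw [Nat.coprime_iff_gcd_eq_one, Nat.ModEq.gcd_eq ((hx1.of_dvd (dvd_pow_self m' two_ne_zero)))]
      simp
    · rw [Nat.coprime_iff_gcd_eq_one, Nat.ModEq.gcd_eq ((hx2.of_dvd (dvd_pow_self (p ^ a) two_ne_zero)))]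
      obtain ⟨l, hl⟩ : ∃ l, p ^ a = l + 1 := ⟨p ^ a - 1, by omega⟩
      rw [hl, Nat.add_sub_cancel]
      simp
  obtain ⟨r, hrB, hr, hrx⟩ := Nat.forall_exists_prime_gt_and_modEq (max B 2)
    (Nat.mul_ne_zero (pow_ne_zero _ (by omega)) (pow_ne_zero _ (pow_ne_zero _ hp.ne_zero))) hxc
  have hr1 : r % m' ^ 2 = 1 + m' := by
    have h := (hrx.of_dvd (dvd_mul_right _ _)).trans hx1
    rw [Nat.ModEq, Nat.mod_eq_of_lt hm2] at h
    exact h
  have hr2 : r % (p ^ a) ^ 2 = p ^ a - 1 := by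
    have h := (hrx.of_dvd (dvd_mul_left _ _)).trans hx2
    rw [Nat.ModEq, Nat.mod_eq_of_lt hp2'] at h
    exact h
  have hodd : Odd r := hr.odd_of_ne_two (by omega)
  obtain ⟨k, hk⟩ : ∃ k, r = 1 + m' + m' ^ 2 * k :=
    ⟨r / m' ^ 2, by have := Nat.mod_add_div r (m' ^ 2); rw [hr1] at this; exact this.symm⟩
  obtain ⟨l, hl⟩ : ∃ l, r = p ^ a - 1 + (p ^ a) ^ 2 * l :=
    ⟨r / (p ^ a) ^ 2, by have := Nat.mod_add_div r ((p ^ a) ^ 2); rw [hr2] at this; exact this.symm⟩
  have hA : r - 1 = m' * (1 + m' * k) := by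
    rw [hk, show 1 + m' + m' ^ 2 * k = 1 + m' * (1 + m' * k) by ring, Nat.add_sub_cancel_left]
  have hB : r + 1 = p ^ a * (1 + p ^ a * l) := by
    obtain ⟨u, hu⟩ : ∃ u, p ^ a = u + 1 := ⟨p ^ a - 1, by omega⟩
    rw [hl, hu, Nat.add_sub_cancel]
    ring
  set A := 1 + m' * k with hAdef
  set C := 1 + p ^ a * l with hCdef
  have hpA : p.Coprime A := hp.coprime_iff_not_dvd.2 fun h => by
    have h1 : p ∣ r - 1 := hA ▸ h.mul_left _
    have h2 : p ∣ r + 1 := hB ▸ (dvd_pow_self p ha).mul_right _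
    have h3 := Nat.dvd_sub h2 h1
    rw [show r + 1 - (r - 1) = 2 by have := hr.two_le; omega] at h3
    have := Nat.le_of_dvd (by norm_num) h3
    omega
  have hpC : (p ^ a).Coprime C := by simp [hCdef]
  have hmA : m'.Coprime A := by simp [hAdef]
  have hmC : Nat.gcd m' C ∣ 2 := by
    have h1 : Nat.gcd m' C ∣ r - 1 := hA ▸ (Nat.gcd_dvd_left _ _).mul_right _
    have h2 : Nat.gcd m' C ∣ r + 1 := hB ▸ (Nat.gcd_dvd_right _ _).mul_left _
    have h3 := Nat.dvd_sub h2 h1
    rwa [show r + 1 - (r - 1) = 2 by have := hr.two_le; omega] at h3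
  have hrm : (p ^ a * m').Coprime r := by
    refine (Nat.Coprime.mul_left ?_ ?_)
    · refine (Nat.Coprime.pow_left a (hp.coprime_iff_not_dvd.2 fun h => ?_))
      have h2 : p ∣ r + 1 := hB ▸ (dvd_pow_self p ha).mul_right _
      exact hp.one_lt.ne' (Nat.dvd_one.1 ((Nat.dvd_add_right h).1 h2))
    · refine (hr.coprime_iff_not_dvd.2 fun h => ?_).symm
      have h1 : r ∣ r - 1 := hA ▸ h.mul_right _
      have := Nat.le_of_dvd (by have := hr.two_le; omega) h1
      omega
  refine ⟨r, hr, by omega, hodd, hA ▸ dvd_mul_right _ _, hB ▸ dvd_mul_right _ _, ?_⟩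
  rcases hpar with h4 | h4
  · -- the factor two is in `C`
    obtain ⟨C', hC'⟩ : 2 ∣ C := by
      by_contra h
      have hev : 2 ∣ p ^ a * C := hB ▸ (show 2 ∣ r + 1 by obtain ⟨j, hj⟩ := hodd; exact ⟨j + 1, by omega⟩)
      rcases (Nat.prime_two.dvd_mul).1 hev with h' | h'
      · exact hp2 ((Nat.prime_dvd_prime_iff_eq Nat.prime_two hp).1 (Nat.prime_two.dvd_of_dvd_pow h')).symm
      · exact h h'
    refine ⟨r * A * C', by rw [hA, hB, hC']; ring, ?_⟩
    refine Nat.Coprime.mul_right (Nat.Coprime.mul_right hrm ?_) ?_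
    · exact Nat.Coprime.mul_left (hpA.pow_left a) hmA
    · refine Nat.Coprime.mul_left (hpC.coprime_dvd_right (Dvd.intro_left 2 hC'.symm)) ?_
      -- `r + 1` is twice an odd number
      have hC'odd : ¬ 2 ∣ C' := fun ⟨j, hj⟩ => by
        have h4' : 4 ∣ r + 1 := hB ▸ Dvd.dvd.mul_left ⟨j, by rw [hC', hj]; ring⟩ _
        have : 4 ∣ r - 1 := hA ▸ (Nat.dvd_of_mod_eq_zero h4).mul_right _
        omega
      have hg2 : Nat.gcd m' C' ∣ 2 :=
        (Nat.dvd_gcd (Nat.gcd_dvd_left m' C') ((Nat.gcd_dvd_right m' C').trans (hC' ▸ dvd_mul_left C' 2))).trans hmC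
      rcases (Nat.dvd_prime Nat.prime_two).1 hg2 with e | e
      · exact e
      · exact absurd (e ▸ Nat.gcd_dvd_right m' C') hC'odd
  · -- the factor two is in `A`
    obtain ⟨A', hA'⟩ : 2 ∣ A := by
      by_contra h
      have hev : 2 ∣ m' * A := hA ▸ (show 2 ∣ r - 1 by obtain ⟨j, hj⟩ := hodd; exact ⟨j, by omega⟩)
      rcases (Nat.prime_two.dvd_mul).1 hev with h' | h'
      · exact h4.not_two_dvd_nat h'
      · exact h h'
    refine ⟨r * A' * C, by rw [hA, hB, hA']; ring, ?_⟩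
    refine Nat.Coprime.mul_right (Nat.Coprime.mul_right hrm ?_) ?_
    · exact (Nat.Coprime.mul_left (hpA.pow_left a) hmA).coprime_dvd_right (Dvd.intro_left 2 hA'.symm)
    · refine Nat.Coprime.mul_left hpC ?_
      rcases (Nat.dvd_prime Nat.prime_two).1 hmC with e | e
      · exact e
      · exact absurd (e ▸ Nat.gcd_dvd_left m' C) h4.not_two_dvd_nat

/-- For every other `m` some group has no subgroup of order `m`. -/
theorem exists_counterexample {m : ℕ} (hm : 2 ≤ m) (hpp : ¬ IsPrimePow m) (h2 : m % 4 ≠ 2)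
    (h12 : m ≠ 12) (h24 : m ≠ 24) (h60 : m ≠ 60) :
    ∃ (G : Type) (_ : Group G) (_ : Finite G), m ∣ Nat.card G ∧ m.Coprime (Nat.card G / m) ∧
      ∀ H : Subgroup G, Nat.card H ≠ m := by
  classical
  obtain ⟨p, hp, hpm, hp2⟩ : ∃ p, p.Prime ∧ p ∣ m ∧ p ≠ 2 := by
    by_contra hno
    push Not at hno
    refine hpp (isPrimePow_nat_iff _ |>.2 ⟨2, m.primeFactorsList.length, Nat.prime_two, ?_, ?_⟩)
    · refine List.length_pos_of_ne_nil fun e => ?_
      rcases (Nat.primeFactorsList_eq_nil _).1 e with h | h <;> omega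
    · exact (Nat.eq_prime_pow_of_unique_prime_dvd (by omega) fun {d} hd hdm => hno d hd hdm).symm
  obtain ⟨a, m', hpm', hmeq⟩ := Nat.exists_eq_pow_mul_and_not_dvd (show m ≠ 0 by omega) p hp.ne_one
  have ha : a ≠ 0 := fun e => hpm' (by rwa [hmeq, e, pow_zero, one_mul] at hpm)
  have hcop : p.Coprime m' := hp.coprime_iff_not_dvd.2 hpm'
  have hm' : 2 ≤ m' := by
    rcases m' with _ | _ | m'
    · rw [mul_zero] at hmeq; omega
    · exact absurd (by rw [hmeq, zero_add, mul_one]; exact hp.isPrimePow.pow ha : IsPrimePow m) hpp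
    · omega
  have hpodd : Odd (p ^ a) := (hp.odd_of_ne_two hp2).pow
  have hpar : m' % 4 = 0 ∨ Odd m' := by
    rcases Nat.even_or_odd m' with he | ho
    · left
      obtain ⟨j, hj⟩ := he
      obtain ⟨i, hi⟩ := hpodd
      by_contra h4
      apply h2
      obtain ⟨l, rfl⟩ : ∃ l, j = 2 * l + 1 := ⟨j / 2, by omega⟩
      rw [hmeq, hj, hi]
      have : (2 * i + 1) * (2 * l + 1 + (2 * l + 1)) = 4 * (2 * i * l + i + l) + 2 := by ring
      omega
    · exact Or.inr ho
  obtain ⟨r, hr, hrm, hrodd, hm1, hp1, c, hc, hcc⟩ := exists_prime_split hp hp2 ha hm' hcop (max m 5) hpar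
  haveI : Fact r.Prime := ⟨hr⟩
  refine ⟨ProjectiveSpecialLinearGroup (Fin 2) (ZMod r), inferInstance, inferInstance, ?_⟩
  have hcard : Nat.card (ProjectiveSpecialLinearGroup (Fin 2) (ZMod r)) = m * c := by
    have h := CfsgLib.KGroups.AbelianTwo.card_psl2_odd (F := ZMod r) (by rwa [ZMod.card])
    rw [ZMod.card] at h
    have : 2 * (p ^ a * m' * c) = r * ((r - 1) * (r + 1)) := by rw [← hc]; ring
    rw [← this, ← hmeq] at h
    omega
  refine ⟨⟨c, hcard⟩, ?_, fun H hH => ?_⟩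
  · rw [hcard, Nat.mul_div_cancel_left c (by omega), hmeq]
    exact hcc
  have hpmem : p ∣ m := hpm
  have hrm' : ¬ r ∣ m := fun h => by have := Nat.le_of_dvd (by omega) h; omega
  haveI : CharP (ZMod r) r := ZMod.charP r
  have hgcd : Nat.gcd 2 (r - 1) = 2 := Nat.gcd_eq_left (by obtain ⟨j, hj⟩ := hrodd; exact ⟨j, by omega⟩)
  have hsum : r + 1 - (r - 1) = 2 := by omega
  have hminus : ¬ p ∣ (r - 1) / 2 := fun h => by
    have h1 : p ∣ r - 1 := h.trans (Nat.div_dvd_of_dvd (hgcd ▸ Nat.gcd_dvd_right 2 _))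
    have h2 : p ∣ r + 1 := (dvd_pow_self p ha).trans hp1
    have := Nat.dvd_sub h2 h1
    rw [hsum] at this
    exact hp2 ((Nat.prime_dvd_prime_iff_eq hp Nat.prime_two).1 this)
  rcases Cfsg.Agent.S0799.result (q := r) (ZMod.card r) r H with
    ⟨k, hk, ⟨-, hcy⟩ | ⟨⟨e⟩⟩⟩ | ⟨P, K, hKP, ⟨e⟩⟩ | ⟨⟨e⟩⟩ | ⟨⟨e⟩⟩ | ⟨⟨e⟩⟩ | ⟨K, _, _, j, hj, hK⟩
  · -- cyclic
    rw [hgcd] at hk
    subst hcy
    rw [hH] at hk
    rcases hk with hk | hk
    · have h1 : m' ∣ r + 1 := (hmeq ▸ Dvd.intro_left _ rfl : m' ∣ m).trans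
        (hk.trans (Nat.div_dvd_of_dvd (by obtain ⟨j, hj⟩ := hrodd; exact ⟨j + 1, by omega⟩)))
      have h3 := Nat.dvd_sub h1 hm1
      rw [hsum] at h3
      have := Nat.le_of_dvd (by norm_num) h3
      rcases hpar with h | ⟨i, hi⟩ <;> omega
    · exact hminus (hpmem.trans hk)
  · -- dihedral
    rw [hgcd] at hk
    rw [Nat.card_congr e.toEquiv, DihedralGroup.nat_card] at hH
    have hpk : p ∣ k := (hp.dvd_mul.1 (hH ▸ hpmem)).resolve_left fun h =>
      hp2 ((Nat.prime_dvd_prime_iff_eq hp Nat.prime_two).1 h)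
    rcases hk with hk | hk
    · rcases hpar with h | h
      · have h4 : 4 ∣ 2 * k := hH ▸ hmeq ▸ (Nat.dvd_of_mod_eq_zero h).mul_left _
        have h2 : 2 ∣ (r + 1) / 2 := (show 2 ∣ k by omega).trans hk
        have h5 : 4 ∣ r - 1 := (Nat.dvd_of_mod_eq_zero h).trans hm1
        omega
      · have : Odd m := hmeq ▸ hpodd.mul h
        exact this.not_two_dvd_nat ⟨k, hH.symm⟩
    · exact hminus (hpk.trans hk)
  · -- in the normaliser of a Sylow subgroup
    have hKc : Nat.card K = m := by rw [← Nat.card_congr e.toEquiv, hH]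
    haveI : Fact p.Prime := ⟨hp⟩
    obtain ⟨⟨x, hxK⟩, hx⟩ := exists_prime_orderOf_dvd_card' (G := K) p (hKc ▸ hpmem)
    rw [Subgroup.orderOf_mk] at hx
    have hPc : Nat.card P = r := by
      rw [P.card_eq_multiplicity, hcard]
      have hrc : r ∣ c := by
        have h1 : r ∣ 2 * (p ^ a * m' * c) := hc ▸ (dvd_mul_left r _).mul_right _
        rcases hr.dvd_mul.1 h1 with h' | h'
        · have := Nat.le_of_dvd (by norm_num) h'; omega
        rcases hr.dvd_mul.1 h' with h'' | h''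
        · exact absurd (hmeq ▸ h'') hrm'
        · exact h''
      have hrc2 : ¬ r ^ 2 ∣ m * c := by
        intro h
        have h1 : r ^ 2 ∣ (r - 1) * r * (r + 1) := hc ▸ (hmeq ▸ h).mul_left 2
        rw [pow_two, show (r - 1) * r * (r + 1) = r * ((r - 1) * (r + 1)) by ring] at h1
        rcases hr.dvd_mul.1 (Nat.dvd_of_mul_dvd_mul_left hr.pos h1) with h' | h'
        · have := Nat.le_of_dvd (by omega) h'; omega
        · exact hr.one_lt.ne' (Nat.dvd_one.1 ((Nat.dvd_add_right dvd_rfl).1 h'))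
      have hne : m * c ≠ 0 := by
        rw [← hcard]; exact Nat.card_pos.ne'
      have h1 : 1 ≤ (m * c).factorization r :=
        (hr.pow_dvd_iff_le_factorization hne).1 (by simpa using hrc.mul_left m)
      have h2' : ¬ 2 ≤ (m * c).factorization r := fun h => hrc2 ((hr.pow_dvd_iff_le_factorization hne).2 h)
      rw [show (m * c).factorization r = 1 by omega, pow_one]
    haveI : IsCyclic P := isCyclic_of_prime_card (p := r) hPc
    obtain ⟨⟨u, hu⟩, hgen⟩ := IsCyclic.exists_generator (α := P)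
    have huo : orderOf u = r := by
      rw [← Subgroup.orderOf_mk u hu, orderOf_eq_card_of_forall_mem_zpowers hgen, hPc]
    refine not_commute_of_char r hp (fun e => hrm' (e ▸ hpmem)) hx huo ?_
    -- the automorphism induced by `x` has order dividing `p` and `r - 1`
    have hn := hKP hxK
    let φ : MulAut P :=
      { toFun := fun y => ⟨x * y * x⁻¹, (Subgroup.mem_normalizer_iff.1 hn y).1 y.2⟩
        invFun := fun y => ⟨x⁻¹ * y * x, by
          have := (Subgroup.mem_normalizer_iff.1 (inv_mem hn) y).1 y.2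
          rwa [inv_inv] at this⟩
        left_inv := fun y => Subtype.ext (by simp [mul_assoc])
        right_inv := fun y => Subtype.ext (by simp [mul_assoc])
        map_mul' := fun y z => Subtype.ext (by simp [mul_assoc]) }
    have hpowφ : ∀ (j : ℕ) (y : P), ((φ ^ j) y : _).1 = x ^ j * y * (x ^ j)⁻¹ := fun j => by
      induction j with
      | zero => simp
      | succ j ih =>
        intro y
        rw [pow_succ', MulAut.mul_apply]
        show x * ((φ ^ j) y : _).1 * x⁻¹ = _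
        rw [ih, pow_succ']
        group
    have hφp : φ ^ p = 1 := MulEquiv.ext fun y => Subtype.ext (by
      rw [hpowφ, ← hx, pow_orderOf_eq_one]; simp)
    have hφr : φ ^ (r - 1) = 1 := by
      have hA : Nat.card (MulAut P) = r - 1 := by
        rw [IsCyclic.card_mulAut, hPc, Nat.totient_prime hr]
      exact hA ▸ pow_card_eq_one'
    have hco : Nat.gcd p (r - 1) = 1 := hp.coprime_iff_not_dvd.2 fun h => by
      have h2 : p ∣ r + 1 := (dvd_pow_self p ha).trans hp1
      have := Nat.dvd_sub h2 h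
      rw [hsum] at this
      exact hp2 ((Nat.prime_dvd_prime_iff_eq hp Nat.prime_two).1 this)
    have hφ : φ = 1 := by
      have := (pow_gcd_eq_one (a := φ)).2 ⟨hφp, hφr⟩
      rwa [hco, pow_one] at this
    have h := congrArg Subtype.val (DFunLike.congr_fun hφ ⟨u, hu⟩)
    exact mul_inv_eq_iff_eq_mul.1 h
  · rw [Nat.card_congr e.toEquiv, nat_card_alternatingGroup, Nat.card_fin] at hH
    exact h12 (by rw [← hH]; rfl)
  · rw [Nat.card_congr e.toEquiv, Nat.card_perm, Nat.card_fin] at hH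
    exact h24 (by rw [← hH]; rfl)
  · rw [Nat.card_congr e.toEquiv, nat_card_alternatingGroup, Nat.card_fin] at hH
    exact h60 (by rw [← hH]; rfl)
  · have hKr : Fintype.card K = r := by
      have h1 : Fintype.card K ∣ r := hj ▸ dvd_pow_self _ (fun e => by subst e; simp at hj; omega)
      exact ((Nat.dvd_prime hr).1 h1).resolve_left Fintype.one_lt_card.ne'
    haveI : Fact (Nat.Prime r) := ⟨hr⟩
    have hrG : r ∣ Nat.card (ProjectiveSpecialLinearGroup (Fin 2) K) := by
      have h := CfsgLib.KGroups.AbelianTwo.card_psl2_odd (F := K) (by rwa [hKr])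
      rw [hKr] at h
      have h1 : r ∣ 2 * Nat.card (ProjectiveSpecialLinearGroup (Fin 2) K) := h ▸ dvd_mul_right r _
      refine (hr.dvd_mul.1 h1).resolve_left fun h' => ?_
      have := Nat.le_of_dvd (by norm_num) h'
      omega
    refine hrm' (hH ▸ ?_)
    rcases hK with ⟨⟨e⟩⟩ | ⟨⟨e⟩⟩
    · rwa [Nat.card_congr e.toEquiv]
    · rw [Nat.card_congr e.toEquiv]
      exact hrG.trans (Subgroup.card_dvd_of_injective _ ProjectiveSpecialLinearGroup.toPGL_injective)

end CfsgLib.GWKlein.Consumers.HallNumbers
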