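import Cfsg.Agent.Lib.GWKlein.Consumers.HallNumbers.Sixty
import Cfsg.Agent.Lib.Fusion.Alperin

/-!
# Hall subgroups of order 24

Without one, centralisers of 2-central involutions are solvable of order prime to 3, a four-group of
index 2 in a Sylow 2-subgroup has no rotation, and Frobenius leaves only elementary abelian Sylow
2-subgroups, which the classification of those groups rules out.
-/

set_option autoImplicit false
set_option linter.style.haveILetI false
set_option linter.unusedSectionVars false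

namespace CfsgLib.GWKlein.Consumers.HallNumbers

open Subgroup

universe u

variable {G : Type u} [Group G] [Finite G]

/-- A normal subgroup `Q ≠ ⊥` of a finite `p`-subgroup `S` meets the centre of `S`. -/
theorem exists_central_mem {p : ℕ} [Fact p.Prime] (S Q : Subgroup G) (hS : IsPGroup p S)
    (hSQ : S ≤ normalizer (Q : Set G)) (hp : p ∣ Nat.card Q) :
    ∃ v ∈ Q, v ≠ 1 ∧ S ≤ centralizer ({v} : Set G) := by
  classical
  letI : MulAction S Q := MulAction.ofEndHom
    { toFun := fun s x => ⟨(s : G) * x * (s : G)⁻¹, (mem_normalizer_iff.1 (hSQ s.2) x).1 x.2⟩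
      map_one' := funext fun x => Subtype.ext (by
        show ((1 : S) : G) * x * ((1 : S) : G)⁻¹ = (x : G)
        simp)
      map_mul' := fun a b => funext fun x => Subtype.ext (by
        show (a : G) * b * x * ((a : G) * b)⁻¹ = a * ((b : G) * x * (b : G)⁻¹) * (a : G)⁻¹
        group) }
  have h1 : (1 : Q) ∈ MulAction.fixedPoints S Q := fun s => Subtype.ext (by
    show (s : G) * (1 : G) * (s : G)⁻¹ = 1
    simp)
  obtain ⟨v, hv, hv1⟩ := hS.exists_fixed_point_of_prime_dvd_card_of_fixed_point Q hp h1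
  refine ⟨v, v.2, fun e => hv1 (Subtype.ext e.symm), fun s hs => mem_centralizer_singleton_iff.2 ?_⟩
  have := congrArg Subtype.val (hv ⟨s, hs⟩)
  exact mul_inv_eq_iff_eq_mul.1 this

/-- A non-elementary group of order 8 has exactly one involution that is a square. -/
theorem exists_square_involution {A : Type*} [Group A] [Finite A] (h8 : Nat.card A = 8) {x : A}
    (hx : x * x ≠ 1) :
    ∃ z : A, orderOf z = 2 ∧ ∀ y : A, orderOf (y * y) = 2 → y * y = z := by
  haveI : Fact (Nat.Prime 2) := ⟨Nat.prime_two⟩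
  have hord : ∀ y : A, ∃ k ≤ 3, orderOf y = 2 ^ k := fun y => by
    obtain ⟨k, hk, e⟩ := (Nat.dvd_prime_pow Nat.prime_two).1
      (show orderOf y ∣ 2 ^ 3 from (orderOf_dvd_natCard y).trans (by rw [h8]; norm_num))
    exact ⟨k, hk, e⟩
  by_cases hcyc : ∃ g : A, orderOf g = 8
  · obtain ⟨g, hg⟩ := hcyc
    haveI : IsCyclic A := isCyclic_of_orderOf_eq_card g (hg.trans h8.symm)
    refine ⟨g ^ 4, ?_, fun y hy => ?_⟩
    · rw [orderOf_pow_of_dvd (by norm_num) (hg ▸ by norm_num), hg]
    · obtain ⟨j, hj, hyj⟩ : ∃ j < 8, g ^ j = y * y := by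
        have hm : y * y ∈ zpowers g := by
          rw [(Subgroup.eq_top_of_card_eq (zpowers g) (by rw [Nat.card_zpowers, hg, h8]))]; trivial
        obtain ⟨j, hj⟩ := (mem_powers_iff_mem_zpowers.2 hm : y * y ∈ Submonoid.powers g)
        exact ⟨j % 8, Nat.mod_lt _ (by norm_num), by rw [← hg, pow_mod_orderOf]; exact hj⟩
      rw [← hyj] at hy ⊢
      have h1 : g ^ (j * 2) = 1 := by rw [pow_mul, ← hy, pow_orderOf_eq_one]
      have h2 : 8 ∣ j * 2 := hg ▸ orderOf_dvd_of_pow_eq_one h1
      have h3 : j ≠ 0 := fun e => by rw [e, pow_zero, orderOf_one] at hy; omega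
      rw [show j = 4 by omega]
  · push Not at hcyc
    have h4 : orderOf x = 4 := by
      obtain ⟨k, hk, e⟩ := hord x
      have hne : ¬ orderOf x ∣ 2 := fun h => hx (by rw [← pow_two]; exact orderOf_dvd_iff_pow_eq_one.1 h)
      have := hcyc x
      rw [e] at hne this ⊢
      interval_cases k <;> simp_all
    have hidx : (zpowers x).index = 2 := by
      have := (zpowers x).card_mul_index
      rw [Nat.card_zpowers, h4, h8] at this
      omega
    refine ⟨x * x, ?_, fun y hy => ?_⟩
    · rw [← pow_two, orderOf_pow_of_dvd (by norm_num) (h4 ▸ by norm_num), h4]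
    · obtain ⟨j, hj⟩ := (mem_powers_iff_mem_zpowers.2 (Subgroup.mul_self_mem_of_index_two hidx y) :
        y * y ∈ Submonoid.powers x)
      replace hj : x ^ j = y * y := hj
      rw [← hj] at hy
      have h1 : x ^ (j * 2) = 1 := by rw [pow_mul, ← hy, pow_orderOf_eq_one]
      have h2 : 4 ∣ j * 2 := h4 ▸ orderOf_dvd_of_pow_eq_one h1
      have h3 : j % 4 ≠ 0 := fun e => by
        rw [← pow_mod_orderOf x j, h4, e, pow_zero, orderOf_one] at hy; omega
      rw [← hj]
      show x ^ j = x * x
      rw [← pow_two, ← pow_mod_orderOf x j, h4, show j % 4 = 2 by omega]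

/-- An automorphism of odd order, prime to 3, of a group of order 8 fixing an involution is trivial. -/
theorem mulAut_eq_one {A : Type*} [Group A] [Finite A] (h8 : Nat.card A = 8) (φ : MulAut A)
    (hodd : Odd (orderOf φ)) (h3 : ¬ 3 ∣ orderOf φ) {z : A} (hz : orderOf z = 2) (hfix : φ z = z) :
    φ = 1 := by
  classical
  haveI := Fintype.ofFinite A
  by_contra hne
  have hn1 : orderOf φ ≠ 1 := fun e => hne (orderOf_eq_one_iff.1 e)
  obtain ⟨q, hq, hqd⟩ := Nat.exists_prime_and_dvd hn1
  have hq5 : 5 ≤ q := by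
    have h2 := hq.two_le
    rcases Nat.lt_or_ge q 5 with h | h
    · interval_cases q
      · exact absurd (even_iff_two_dvd.2 hqd) (Nat.not_even_iff_odd.2 hodd)
      · exact absurd hqd h3
      · norm_num at hq
    · exact h
  have ho : orderOf φ ≠ 0 := (orderOf_pos φ).ne'
  set ψ := φ ^ (orderOf φ / q) with hψ
  have hψo : orderOf ψ = q := by rw [hψ, orderOf_pow_orderOf_div ho hqd]
  have hψz : ψ z = z := by
    have h : ∀ n : ℕ, (φ ^ n) z = z := fun n => by
      induction n with
      | zero => rfl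
      | succ n ih => rw [pow_succ, MulAut.mul_apply, hfix, ih]
    exact h _
  set F : Subgroup A := MonoidHom.eqLocus ψ.toMonoidHom (MonoidHom.id A) with hF
  have hFtop : F ≠ ⊤ := fun e => by
    have h1 : ψ = 1 := MulEquiv.ext fun a => (show a ∈ F from e ▸ mem_top a)
    rw [h1, orderOf_one] at hψo
    exact hq.one_lt.ne hψo
  -- counting modulo `q`
  haveI : Fact q.Prime := ⟨hq⟩
  have hP : IsPGroup q (zpowers ψ) := IsPGroup.of_card (n := 1) (by rw [Nat.card_zpowers, hψo, pow_one])
  have hmod := hP.card_modEq_card_fixedPoints A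
  have hfp : Nat.card (MulAction.fixedPoints (zpowers ψ) A) = Nat.card F := by
    refine Nat.card_congr (Equiv.subtypeEquivRight fun a => ⟨fun h => h ⟨ψ, mem_zpowers ψ⟩, fun h => ?_⟩)
    intro g
    have hle : zpowers ψ ≤ MulAction.stabilizer (MulAut A) a := zpowers_le.2 h
    exact hle g.2
  rw [hfp, h8] at hmod
  have hFd : Nat.card F ∣ 2 ^ 3 := by have := card_subgroup_dvd_card F; rwa [h8] at this
  have hF2 : 2 ∣ Nat.card F := by
    exact hz.symm.dvd.trans (Subgroup.orderOf_dvd_natCard F (show z ∈ F from hψz))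
  have hlt : Nat.card F < 8 := by
    refine lt_of_le_of_ne (Nat.le_of_dvd (by norm_num) (by simpa using hFd)) fun e => hFtop ?_
    exact Subgroup.eq_top_of_card_eq F (e.trans h8.symm)
  have hdiff : q ∣ 8 - Nat.card F := (Nat.modEq_iff_dvd' hlt.le).1 hmod.symm
  obtain ⟨k, hk, e⟩ := (Nat.dvd_prime_pow Nat.prime_two).1 hFd
  rw [e] at hdiff hlt hF2
  interval_cases k
  · norm_num at hF2
  · have := Nat.le_of_dvd (by norm_num) hdiff
    have hq6 : q = 5 ∨ q = 6 := by norm_num at this; omega
    rcases hq6 with rfl | rfl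
    · norm_num at hdiff
    · norm_num at hq
  · have := Nat.le_of_dvd (by norm_num) hdiff
    norm_num at this
    omega
  · norm_num at hlt

/-- The order of `PSL(2, q)` in the two cases is not divisible by 8 if it divides a number `24c`. -/
theorem not_eight_dvd_smallL2 {L : Type u} [Group L] (hL : IsSmallL2 L) {c : ℕ}
    (hd : Nat.card L ∣ 24 * c) (hc : Nat.Coprime 24 c) : ¬ 8 ∣ Nat.card L := by
  obtain ⟨F, _, _, hq, ⟨e⟩⟩ := hL
  rw [Nat.card_congr e.toEquiv] at hd ⊢
  have hcard := CfsgLib.Perm.ZGroup.card_psl2_gcd (F := F)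
  set q := Fintype.card F with hqdef
  set N := Nat.card (Matrix.ProjectiveSpecialLinearGroup (Fin 2) F)
  rcases hq with ⟨h8, -⟩ | ⟨n, hn, hqn⟩
  · intro h
    rw [Nat.gcd_eq_left (show 2 ∣ q - 1 by omega)] at hcard
    have h16 : 2 * 8 ∣ q * ((q - 1) * (q + 1)) := hcard ▸ mul_dvd_mul_left 2 h
    have hodd : Nat.Coprime (2 * 8) q := by
      rw [show 2 * 8 = 2 ^ 4 from rfl]
      exact (Nat.coprime_two_left.2 (Nat.odd_iff.2 (by omega))).pow_left 4
    have h16' := hodd.dvd_of_dvd_mul_left h16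
    obtain ⟨t, s, hqs, hs⟩ : ∃ t s, q = 8 * t + s ∧ (s = 3 ∨ s = 5) :=
      ⟨q / 8, q % 8, (Nat.div_add_mod q 8).symm, h8⟩
    rw [hqs] at h16'
    rcases hs with rfl | rfl
    · rw [show 8 * t + 3 - 1 = 8 * t + 2 by omega,
        show (8 * t + 2) * (8 * t + 3 + 1) = 16 * (4 * t * t + 3 * t) + 8 by ring] at h16'
      omega
    · rw [show 8 * t + 5 - 1 = 8 * t + 4 by omega,
        show (8 * t + 4) * (8 * t + 5 + 1) = 16 * (4 * t * t + 5 * t + 1) + 8 by ring] at h16'
      omega
  · have hev : 2 ∣ q := hqn ▸ dvd_pow_self 2 (by omega)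
    have hpos : 2 ≤ q := hqn ▸ Nat.le_self_pow (by omega) 2
    rw [show Nat.gcd 2 (q - 1) = 1 from
      (Nat.prime_two.coprime_iff_not_dvd.2 (by omega) : Nat.Coprime 2 (q - 1)), one_mul] at hcard
    rw [hcard] at hd ⊢
    have hq8 : q ∣ 2 ^ 3 := by
      have h2c : Nat.Coprime q c := hqn ▸ (hc.coprime_dvd_left (show 2 ∣ 24 by norm_num)).pow_left n
      have h := h2c.dvd_of_dvd_mul_right ((dvd_mul_right q _).trans hd)
      have h3q : Nat.Coprime q 3 := hqn ▸ (show Nat.Coprime 2 3 by norm_num).pow_left n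
      exact h3q.dvd_of_dvd_mul_right (m := 2 ^ 3) h
    have hn3 : n ≤ 3 := (Nat.pow_dvd_pow_iff_le_right (by norm_num)).1 (hqn ▸ hq8)
    interval_cases n
    · rw [hqn]; norm_num
    · exfalso
      rw [hqn] at hd
      have h9 : 9 ∣ 24 * c := (show 9 ∣ _ by norm_num).trans hd
      exact not_dvd_of_coprime ((hc.coprime_dvd_left (show 3 ∣ 24 by norm_num)).pow_left 2 :
        Nat.Coprime (3 ^ 2) c) (by norm_num) h9

/-- The order 24 in a group with trivial odd core. -/
theorem exists_card_twentyfour_reduced (hK : SimpleKlein.{u}) (hO : Cfsg.oddCore G = ⊥) {c : ℕ}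
    (hG : Nat.card G = 24 * c) (hc : Nat.Coprime 24 c) :
    ∃ K : Subgroup G, Nat.card K = 24 := by
  classical
  haveI : Fact (Nat.Prime 2) := ⟨Nat.prime_two⟩
  by_contra hno
  have hsol : ∀ H : Subgroup G, Group.IsSolvable H → ¬ 24 ∣ Nat.card H := fun H hH h => by
    haveI := hH
    exact hno (exists_card_of_solvable H hG hc h)
  have hns : ¬ Group.IsSolvable G := fun h => by
    haveI := h
    exact hno (CfsgLib.Solvable.Hall.exists_card_eq hG hc)
  have h8 : 2 ^ 3 ∣ Nat.card G := hG ▸ Dvd.dvd.mul_right (by norm_num) c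
  have h16 : ¬ 2 ^ (3 + 1) ∣ Nat.card G := hG ▸ not_dvd_of_coprime
    ((hc.coprime_dvd_left (show 2 ∣ 24 by norm_num)).pow_left 4) (by norm_num)
  have hScard : ∀ S : Sylow 2 G, Nat.card S = 8 := fun S => card_sylow_two S h8 h16
  -- centralisers of 2-central involutions
  have hcent : ∀ z : G, orderOf z = 2 → 8 ∣ Nat.card ↥(centralizer ({z} : Set G)) →
      Group.IsSolvable ↥(centralizer ({z} : Set G)) ∧ ¬ 3 ∣ Nat.card ↥(centralizer ({z} : Set G)) := by
    intro z hz h8C
    set C := centralizer ({z} : Set G) with hC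
    by_cases hCs : Group.IsSolvable C
    · exact ⟨hCs, fun h => hsol C hCs ((show Nat.Coprime 8 3 by norm_num).mul_dvd_of_dvd_of_dvd h8C h)⟩
    exfalso
    let z' : C := ⟨z, mem_centralizer_singleton_iff.2 rfl⟩
    have hz' : orderOf z' = 2 := by rw [← Subgroup.orderOf_coe z']; exact hz
    haveI hZn : (zpowers z').Normal := ⟨fun x hx g => by
      obtain ⟨j, rfl⟩ := mem_zpowers_iff.1 hx
      rw [(show Commute g z' from Subtype.ext (mem_centralizer_singleton_iff.1 g.2)).zpow_right j |>.eq,
        mul_inv_cancel_right]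
      exact zpow_mem (mem_zpowers z') j⟩
    haveI : IsCyclic ↥(zpowers z') := inferInstance
    have hkerS : Group.IsSolvable ↥(QuotientGroup.mk' (zpowers z')).ker := by
      rw [QuotientGroup.ker_mk']
      exact Group.isSolvable_of_comm (inferInstance : IsMulCommutative ↥(zpowers z')).is_comm.comm
    have hcardQ : Nat.card C = Nat.card (C ⧸ zpowers z') * 2 := by
      rw [card_eq_card_quotient_mul_card_subgroup (zpowers z'), Nat.card_zpowers, hz']
    have h4Q : 4 ∣ Nat.card (C ⧸ zpowers z') := by omega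
    have h8Q : ¬ 8 ∣ Nat.card (C ⧸ zpowers z') := fun h => h16
      (((show 2 ^ (3 + 1) = 8 * 2 from rfl) ▸ mul_dvd_mul_right h 2).trans
        (hcardQ.symm.dvd.trans (card_subgroup_dvd_card C)))
    have hnsQ : ¬ Group.IsSolvable (C ⧸ zpowers z') := fun h =>
      hCs (CfsgLib.Sectional.OddCoreA8.isSolvable_of_ker _ hkerS h)
    obtain ⟨H, hH, h12⟩ := exists_solvable_twelve h4Q h8Q hnsQ
    haveI := isSolvable_comap (QuotientGroup.mk' (zpowers z')) hkerS H hH
    refine hsol ((H.comap (QuotientGroup.mk' (zpowers z'))).map C.subtype) ?_ ?_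
    · exact Group.isSolvable_of_surjective (f := C.subtype.subgroupMap _)
        (C.subtype.subgroupMap_surjective _)
    · rw [card_map_of_injective C.subtype_injective, card_comap_mk, Nat.card_zpowers, hz']
      exact mul_dvd_mul h12 dvd_rfl
  -- four-groups in Sylow 2-subgroups
  have hklein : ∀ (S : Sylow 2 G) (Q : Subgroup G), Q ≤ (S : Subgroup G) → Nat.card Q = 4 →
      ∀ g ∈ normalizer (Q : Set G), Odd (orderOf g) → g ∈ centralizer (Q : Set G) := by
    intro S Q hQS hQ g hg hgo
    by_contra hgC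
    have hidx : (Q.subgroupOf (S : Subgroup G)).index = 2 := by
      have h := (Q.subgroupOf (S : Subgroup G)).card_mul_index
      rw [Nat.card_congr (subgroupOfEquivOfLe hQS).toEquiv, hQ, hScard S] at h
      omega
    haveI := normal_of_index_eq_two hidx
    have hSN : (S : Subgroup G) ≤ normalizer (Q : Set G) := le_normalizer_of_normal_subgroupOf hQS
    obtain ⟨v, hvQ, hv1, hSv⟩ := exists_central_mem (S : Subgroup G) Q S.2 hSN (by rw [hQ]; norm_num)
    have h24 : 24 ∣ Nat.card ↥(normalizer (Q : Set G)) := (show Nat.Coprime 8 3 by norm_num).mul_dvd_of_dvd_of_dvd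
      ((hScard S).symm.dvd.trans (card_dvd_of_le hSN)) (three_dvd_of_rotation hQ hg hgo hgC)
    refine hsol _ ?_ h24
    -- an involution of `S` in the centre, a power of `v`
    obtain ⟨k, hk⟩ := S.2 ⟨v, hQS hvQ⟩
    have hkv : v ^ 2 ^ k = 1 := congrArg Subtype.val hk
    obtain ⟨i, -, hi⟩ := (Nat.dvd_prime_pow Nat.prime_two).1 (orderOf_dvd_of_pow_eq_one hkv)
    have hi0 : i ≠ 0 := fun e => hv1 (orderOf_eq_one_iff.1 (by rw [hi, e, pow_zero]))
    set w := v ^ 2 ^ (i - 1) with hw
    have hwo : orderOf w = 2 := by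
      rw [hw, orderOf_pow_of_dvd (pow_ne_zero _ two_ne_zero) (hi ▸ pow_dvd_pow 2 (Nat.sub_le i 1)), hi,
        Nat.pow_div (Nat.sub_le i 1) two_pos, show i - (i - 1) = 1 by omega, pow_one]
    have hSw : (S : Subgroup G) ≤ centralizer ({w} : Set G) := fun s hs =>
      mem_centralizer_singleton_iff.2 ((show Commute s v from mem_centralizer_singleton_iff.1 (hSv hs)).pow_right _).eq
    obtain ⟨hws, -⟩ := hcent w hwo ((hScard S).symm.dvd.trans (card_dvd_of_le hSw))
    haveI := hws
    have hCQ : centralizer (Q : Set G) ≤ centralizer ({w} : Set G) :=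
      centralizer_le (Set.singleton_subset_iff.2 (pow_mem hvQ _))
    have hker : Group.IsSolvable ↥Q.normalizerMonoidHom.ker := by
      rw [normalizerMonoidHom_ker]
      refine Group.isSolvable_of_isSolvable_injective
        (f := ((normalizer (Q : Set G)).subtype.comp (((centralizer (Q : Set G)).subgroupOf _).subtype)).codRestrict
          (centralizer ({w} : Set G)) fun x => hCQ x.2) ?_
      exact fun a b h => Subtype.ext (Subtype.ext (congrArg Subtype.val h :))
    refine CfsgLib.Sectional.OddCoreA8.isSolvable_of_ker Q.normalizerMonoidHom hker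
      (isSolvable_of_not_four fun h => ?_)
    have := h.trans (card_mulAut_dvd Q)
    rw [hQ] at this
    norm_num [Nat.factorial] at this
  -- all Sylow 2-subgroups are elementary abelian
  have helem : ∀ (S : Sylow 2 G) (x : ↥(S : Subgroup G)), x * x = 1 := by
    intro S
    by_contra hx
    push Not at hx
    obtain ⟨x, hx⟩ := hx
    obtain ⟨z, hz, huniq⟩ := exists_square_involution (hScard S) hx
    have hzsq : ∃ y : ↥(S : Subgroup G), y * y = z := by
      obtain ⟨k, hk, e⟩ := (Nat.dvd_prime_pow Nat.prime_two).1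
        (show orderOf x ∣ 2 ^ 3 from (orderOf_dvd_natCard x).trans (by rw [hScard S]; norm_num))
      have hk2 : 2 ≤ k := by
        by_contra hlt
        exact hx (by rw [← pow_two]; exact orderOf_dvd_iff_pow_eq_one.1 (e ▸ by
          simpa using pow_dvd_pow 2 (show k ≤ 1 by omega)))
      refine ⟨x ^ 2 ^ (k - 2), huniq _ ?_⟩
      rw [← pow_add, ← two_mul, mul_comm, ← pow_succ, show k - 2 + 1 = k - 1 by omega,
        orderOf_pow_of_dvd (pow_ne_zero _ two_ne_zero) (e ▸ pow_dvd_pow 2 (Nat.sub_le k 1)), e,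
        Nat.pow_div (Nat.sub_le k 1) two_pos, show k - (k - 1) = 1 by omega, pow_one]
    obtain ⟨y, hy⟩ := hzsq
    -- the normaliser of `S` fixes `z`
    have hfix : ∀ g ∈ normalizer ((S : Subgroup G) : Set G), g * (z : G) * g⁻¹ = z := by
      intro g hg
      let y' : ↥(S : Subgroup G) := ⟨g * y * g⁻¹, (mem_normalizer_iff.1 hg y).1 y.2⟩
      have h1 : ((y' * y' : ↥(S : Subgroup G)) : G) = g * (z : G) * g⁻¹ := by
        show g * y * g⁻¹ * (g * y * g⁻¹) = g * (z : G) * g⁻¹
        rw [← hy]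
        show g * y * g⁻¹ * (g * y * g⁻¹) = g * ((y : G) * y) * g⁻¹
        group
      have h2 : orderOf (y' * y') = 2 := by
        rw [← Subgroup.orderOf_coe (y' * y'), h1, ← MulAut.conj_apply, MulEquiv.orderOf_eq,
          Subgroup.orderOf_coe, hz]
      rw [← h1, huniq y' h2]
    have hzo : orderOf (z : G) = 2 := by rw [Subgroup.orderOf_coe, hz]
    have hSz : (S : Subgroup G) ≤ centralizer ({(z : G)} : Set G) := fun s hs =>
      mem_centralizer_singleton_iff.2 (mul_inv_eq_iff_eq_mul.1 (hfix s (le_normalizer hs)))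
    obtain ⟨-, hC3⟩ := hcent z hzo ((hScard S).symm.dvd.trans (card_dvd_of_le hSz))
    obtain ⟨P, M, hM, hcomp⟩ := CfsgLib.Fusion.Alperin.npc_of_frobenius S fun Q hQS g hg hgo => by
      have hgodd : Odd (orderOf g) := Nat.coprime_two_right.1 hgo
      by_cases hQ4 : Nat.card Q = 4
      · exact hklein S Q hQS hQ4 g hg hgodd
      set φ := Q.normalizerMonoidHom ⟨g, hg⟩ with hφ
      have hφ2 : orderOf φ ∣ orderOf g := by
        rw [← Subgroup.orderOf_mk g hg]; exact orderOf_map_dvd _ _
      have hφodd : Odd (orderOf φ) := hgodd.of_dvd_nat hφ2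
      suffices hφ1 : φ = 1 by
        rw [hφ, ← MonoidHom.mem_ker, normalizerMonoidHom_ker, mem_subgroupOf] at hφ1
        exact hφ1
      have hQd : Nat.card Q ∣ 2 ^ 3 := by
        rw [show 2 ^ 3 = Nat.card S from (hScard S).symm]; exact card_dvd_of_le hQS
      obtain ⟨k, hk, hQk⟩ := (Nat.dvd_prime_pow Nat.prime_two).1 hQd
      interval_cases k
      · have := (orderOf_dvd_natCard φ).trans (card_mulAut_dvd Q)
        rw [hQk] at this
        exact orderOf_eq_one_iff.1 (Nat.dvd_one.1 (by simpa using this))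
      · have := (orderOf_dvd_natCard φ).trans (card_mulAut_dvd Q)
        rw [hQk] at this
        exact orderOf_eq_one_iff.1 (Nat.dvd_one.1 (by simpa using this))
      · exact absurd hQk hQ4
      · have hQeq : Q = (S : Subgroup G) := Subgroup.eq_of_le_of_card_ge hQS (by rw [hQk, hScard S]; norm_num)
        subst hQeq
        have hgz : g ∈ centralizer ({(z : G)} : Set G) :=
          mem_centralizer_singleton_iff.2 (mul_inv_eq_iff_eq_mul.1 (hfix g hg))
        refine mulAut_eq_one hQk φ hφodd (fun h => hC3 ?_) hz ?_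
        · exact (h.trans hφ2).trans (orderOf_dvd_natCard _ hgz)
        · exact Subtype.ext (hfix g hg)
    -- a normal complement
    refine hns ?_
    haveI := hM
    haveI : Group.IsNilpotent ↥(P : Subgroup G) := P.2.isNilpotent
    refine CfsgLib.Sectional.OddCoreA8.isSolvable_of_ker (QuotientGroup.mk' M) ?_ ?_
    · rw [QuotientGroup.ker_mk']
      refine Cfsg.Agent.S0205.result (Nat.not_even_iff_odd.1 fun he => P.not_dvd_index ?_)
      rw [hcomp.index_eq_card]
      exact even_iff_two_dvd.1 he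
    · haveI : Group.IsNilpotent (G ⧸ M) := (IsPGroup.of_card (p := 2) (n := 3)
        (by rw [← index_eq_card, hcomp.symm.index_eq_card, hScard P]; norm_num) :
        IsPGroup 2 (G ⧸ M)).isNilpotent
      infer_instance
  -- elementary abelian Sylow 2-subgroups
  obtain ⟨S⟩ : Nonempty (Sylow 2 G) := inferInstance
  have habel : IsMulCommutative ↥(S : Subgroup G) := ⟨⟨fun a b => by
    have ha : a⁻¹ = a := inv_eq_of_mul_eq_one_left (helem S a)
    have hb : b⁻¹ = b := inv_eq_of_mul_eq_one_left (helem S b)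
    have hab : (a * b)⁻¹ = a * b := inv_eq_of_mul_eq_one_left (helem S (a * b))
    rw [← hab, _root_.mul_inv_rev, ha, hb]⟩⟩
  have hC : ∀ t : G, orderOf t = 2 → Group.IsSolvable ↥(centralizer ({t} : Set G)) := fun t ht => by
    obtain ⟨T, hT⟩ := (IsPGroup.of_card (p := 2) (n := 1)
      (by rw [Nat.card_zpowers, ht, pow_one]) : IsPGroup 2 (zpowers t)).exists_le_sylow
    have htT : t ∈ (T : Subgroup G) := hT (mem_zpowers t)
    have hTt : (T : Subgroup G) ≤ centralizer ({t} : Set G) := fun s hs => by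
      refine mem_centralizer_singleton_iff.2 ?_
      have ha : s⁻¹ = s := inv_eq_of_mul_eq_one_left (congrArg Subtype.val (helem T ⟨s, hs⟩))
      have hb : t⁻¹ = t := inv_eq_of_mul_eq_one_left (congrArg Subtype.val (helem T ⟨t, htT⟩))
      have hab : (s * t)⁻¹ = s * t := inv_eq_of_mul_eq_one_left
        (congrArg Subtype.val (helem T ⟨s * t, mul_mem hs htT⟩))
      rw [← hab, _root_.mul_inv_rev, ha, hb]
    exact (hcent t ht ((hScard T).symm.dvd.trans (card_dvd_of_le hTt))).1
  obtain ⟨L, hLn, hL, hCL⟩ := exists_smallL2 hK S habel hC hO hns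
  haveI := hLn
  have h8L : ¬ 8 ∣ Nat.card L := not_eight_dvd_smallL2 hL (hG ▸ card_subgroup_dvd_card L) hc
  have hLns : ¬ Group.IsSolvable L := by
    intro hLs
    obtain ⟨F, _, _, hq, ⟨e⟩⟩ := hL
    haveI : IsSimpleGroup (Matrix.ProjectiveSpecialLinearGroup (Fin 2) F) :=
      CfsgLib.Classical.psl_fin_isSimpleGroup le_rfl fun _ => by
        rcases hq with ⟨-, h⟩ | ⟨n, hn, h⟩
        · omega
        · have := Nat.pow_le_pow_right two_pos hn; omega
    haveI := e.isSimpleGroup
    have hcomm : ∀ a b : L, a * b = b * a := IsSimpleGroup.comm_iff_isSolvable.2 hLs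
    have hle : L ≤ centralizer (L : Set G) := fun a ha => mem_centralizer_iff.2 fun b hb =>
      congrArg Subtype.val (hcomm ⟨b, hb⟩ ⟨a, ha⟩)
    rw [hCL, le_bot_iff] at hle
    exact (nontrivial_iff_ne_bot L).1 inferInstance hle
  have h4L : 4 ∣ Nat.card L := by
    by_contra h
    exact hLns (isSolvable_of_not_four h)
  obtain ⟨T⟩ : Nonempty (Sylow 2 L) := inferInstance
  have hTc : Nat.card T = 4 := card_sylow_two T (n := 2) h4L h8L
  obtain ⟨g, hg, hgo, hgC⟩ := exists_rotation T hTc hLns
  obtain ⟨S', hS'⟩ := (T.2.map L.subtype).exists_le_sylow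
  refine hgC (mem_centralizer_iff.2 fun a ha => Subtype.ext ?_)
  refine mem_centralizer_iff.1 (hklein S' ((T : Subgroup L).map L.subtype) hS'
    (by rw [card_map_of_injective L.subtype_injective, hTc]) g ?_ (by rwa [Subgroup.orderOf_coe])) a ⟨a, ha, rfl⟩
  exact le_normalizer_map L.subtype ⟨g, hg, rfl⟩

/-- The order 24. -/
theorem exists_card_twentyfour (hK : SimpleKlein.{u}) {c : ℕ} (hG : Nat.card G = 24 * c)
    (hc : Nat.Coprime 24 c) : ∃ K : Subgroup G, Nat.card K = 24 := by
  haveI : Fact (Nat.Prime 2) := ⟨Nat.prime_two⟩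
  set O := Cfsg.oddCore G with hO
  have hodd : Odd (Nat.card O) := Nat.coprime_two_right.1 (CfsgLib.Solvable.Cores.coprime_card_pPrimeCore 2)
  have hmul : Nat.card (G ⧸ O) * Nat.card O = 24 * c := (card_eq_card_quotient_mul_card_subgroup O).symm.trans hG
  by_cases h3O : 3 ∣ Nat.card O
  · obtain ⟨S⟩ : Nonempty (Sylow 2 (G ⧸ O)) := inferInstance
    haveI : Group.IsNilpotent ↥(S : Subgroup (G ⧸ O)) := S.2.isNilpotent
    have hker : Group.IsSolvable ↥(QuotientGroup.mk' O).ker := by
      rw [QuotientGroup.ker_mk']; exact Cfsg.Agent.S0205.result hodd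
    haveI := isSolvable_comap (QuotientGroup.mk' O) hker (S : Subgroup (G ⧸ O)) inferInstance
    refine exists_card_of_solvable ((S : Subgroup (G ⧸ O)).comap (QuotientGroup.mk' O)) hG hc ?_
    rw [card_comap_mk]
    refine (show 24 = 2 ^ 3 * 3 from rfl) ▸ mul_dvd_mul (S.pow_dvd_card_of_pow_dvd_card ?_) h3O
    exact ((Nat.coprime_two_left.2 hodd).pow_left 3).dvd_of_dvd_mul_right
      (by rw [hmul]; exact Dvd.dvd.mul_right (by norm_num) c)
  have hco : Nat.Coprime 24 (Nat.card O) :=
    Nat.Coprime.mul_left ((Nat.coprime_two_left.2 hodd).pow_left 3)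
      (Nat.prime_three.coprime_iff_not_dvd.2 h3O)
  obtain ⟨c', hc'⟩ : 24 ∣ Nat.card (G ⧸ O) :=
    hco.dvd_of_dvd_mul_right (by rw [hmul]; exact dvd_mul_right 24 c)
  have hcc : Nat.Coprime 24 c' := by
    refine hc.coprime_dvd_right ⟨Nat.card O, ?_⟩
    rw [hc', mul_assoc] at hmul
    exact (Nat.eq_of_mul_eq_mul_left (by norm_num) hmul).symm
  obtain ⟨K, hKc⟩ := exists_card_twentyfour_reduced hK
    CfsgLib.Coprime.OneClassInvolutions.pPrimeCore_quotient_self hc' hcc
  exact exists_card_of_quotient O hco hKc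

end CfsgLib.GWKlein.Consumers.HallNumbers
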