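import Cfsg.Agent.Lib.GWKlein.Consumers.HallNumbers.Counterexample
import Cfsg.Agent.Lib.GWKlein.Consumers.HallNumbers.TwentyFour

/-!
# Hall numbers

The `m` such that every group whose order `m` divides exactly has a subgroup of order `m`.
-/

set_option autoImplicit false
set_option linter.style.haveILetI false

namespace CfsgLib.GWKlein.Consumers.HallNumbers

open Subgroup

universe u

/-- A prime power always occurs. -/
theorem exists_card_primePow {G : Type u} [Group G] [Finite G] {m : ℕ} (hm : IsPrimePow m)
    (h : m ∣ Nat.card G) : ∃ K : Subgroup G, Nat.card K = m := by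
  obtain ⟨p, k, hp, -, rfl⟩ := (isPrimePow_nat_iff m).1 hm
  haveI : Fact p.Prime := ⟨hp⟩
  exact Sylow.exists_subgroup_card_pow_prime p h

/-- Twice an odd number always occurs. -/
theorem exists_card_two_mod_four {G : Type u} [Group G] [Finite G] {m c : ℕ} (hm : m % 4 = 2)
    (hG : Nat.card G = m * c) (hc : m.Coprime c) : ∃ K : Subgroup G, Nat.card K = m := by
  have h2c : Nat.Coprime (2 ^ 2) c := (hc.coprime_dvd_left (show 2 ∣ m by omega)).pow_left 2
  haveI : Group.IsSolvable G := isSolvable_of_not_four
    (hG ▸ not_dvd_of_coprime h2c (by omega))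
  exact CfsgLib.Solvable.Hall.exists_card_eq hG hc

/-- The statement of S4044, given the Klein four theorem. -/
theorem hall_numbers (hK : SimpleKlein.{0}) (m : ℕ) (hm : 2 ≤ m) :
    (∀ (G : Type) [Group G] [Finite G], m ∣ Nat.card G → m.Coprime (Nat.card G / m) →
        ∃ H : Subgroup G, Nat.card H = m) ↔
    (IsPrimePow m ∨ m % 4 = 2 ∨ m = 12 ∨ m = 24 ∨ m = 60) := by
  constructor
  · intro h
    by_contra hc
    simp only [not_or] at hc
    obtain ⟨h1, h2, h3, h4, h5⟩ := hc
    obtain ⟨G, i1, i2, hd, hco, hno⟩ := exists_counterexample hm h1 h2 h3 h4 h5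
    obtain ⟨H, hH⟩ := @h G i1 i2 hd hco
    exact hno H hH
  · intro hcases G _ _ hd hco
    obtain ⟨c, hG⟩ := hd
    rw [hG, Nat.mul_div_cancel_left c (by omega)] at hco
    rcases hcases with h | h | rfl | rfl | rfl
    · exact exists_card_primePow h (hG ▸ dvd_mul_right m c)
    · exact exists_card_two_mod_four h hG hco
    · exact exists_card_twelve hG hco
    · exact exists_card_twentyfour hK hG hco
    · exact exists_card_sixty hK hG hco

end CfsgLib.GWKlein.Consumers.HallNumbers
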