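import Cfsg.Agent.Lib.GWKlein.Consumers.HallNumbers.Tools
import Cfsg.Agent.Lib.Coprime.OneClassInvolutions
import Cfsg.Agent.S0804
import Cfsg.Agent.Lib.Perm.ZGroup.Simple

/-!
# Hall subgroups of order 12 and 60

The orders 12 and 60 always occur: the second by the Klein four theorem.
-/

set_option autoImplicit false
set_option linter.style.haveILetI false
set_option linter.unusedSectionVars false

namespace CfsgLib.GWKlein.Consumers.HallNumbers

open Subgroup

universe u

variable {G : Type u} [Group G] [Finite G]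

/-- A prime power dividing `m * c`, when `c` is prime to it. -/
theorem not_dvd_of_coprime {k m c : ℕ} (hkc : Nat.Coprime k c) (hkm : ¬ k ∣ m) : ¬ k ∣ m * c :=
  fun h => hkm (hkc.dvd_of_dvd_mul_right h)

/-- The order 12. -/
theorem exists_card_twelve {c : ℕ} (hG : Nat.card G = 12 * c) (hc : Nat.Coprime 12 c) :
    ∃ K : Subgroup G, Nat.card K = 12 := by
  by_cases hs : Group.IsSolvable G
  · haveI := hs
    exact CfsgLib.Solvable.Hall.exists_card_eq hG hc
  have h8 : ¬ 8 ∣ Nat.card G := hG ▸ not_dvd_of_coprime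
    (((hc.coprime_dvd_left (show 2 ∣ 12 by norm_num)).pow_left 3 : Nat.Coprime (2 ^ 3) c)) (by norm_num)
  obtain ⟨H, hH, h12⟩ := exists_solvable_twelve (hG ▸ Dvd.dvd.mul_right (by norm_num) c) h8 hs
  haveI := hH
  exact exists_card_of_solvable H hG hc h12

/-- An `A5` inside a subgroup isomorphic to `PSL(2, q)`. -/
theorem exists_card_sixty_of_psl {X : Type u} [Group X] (L : Subgroup X) (hL : IsPSLThreeFive L)
    (h5 : 5 ∣ Nat.card L) : ∃ K : Subgroup X, Nat.card K = 60 := by
  obtain ⟨F, _, _, hodd, -, -, ⟨e⟩⟩ := hL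
  have hc := CfsgLib.KGroups.AbelianTwo.card_psl2_odd (F := F) hodd
  rw [Nat.card_congr e.toEquiv] at h5
  have h : 5 ∣ Fintype.card F * (Fintype.card F ^ 2 - 1) := by
    have h2 : 5 ∣ 2 * Nat.card (Matrix.ProjectiveSpecialLinearGroup (Fin 2) F) := h5.mul_left 2
    rw [hc, mul_comm (Fintype.card F - 1), ← Nat.sq_sub_sq, one_pow] at h2
    exact h2
  obtain ⟨H, ⟨f⟩⟩ := (Cfsg.Agent.S0804.result (F := F) rfl).2 h
  refine ⟨(H.map e.symm.toMonoidHom).map L.subtype, ?_⟩
  rw [card_map_of_injective L.subtype_injective, card_map_of_injective (K := H) e.symm.injective,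
    Nat.card_congr f.toEquiv, nat_card_alternatingGroup, Nat.card_fin]
  rfl

/-- The order 60 in a group with trivial odd core. -/
theorem exists_card_sixty_reduced (hK : SimpleKlein.{u}) (hO : Cfsg.oddCore G = ⊥) {c : ℕ}
    (hG : Nat.card G = 60 * c) (hc : Nat.Coprime 60 c) (hns : ¬ Group.IsSolvable G) :
    ∃ K : Subgroup G, Nat.card K = 60 := by
  haveI : Fact (Nat.Prime 2) := ⟨Nat.prime_two⟩
  have h8 : ¬ 8 ∣ Nat.card G := hG ▸ not_dvd_of_coprime
    ((hc.coprime_dvd_left (show 2 ∣ 60 by norm_num)).pow_left 3 : Nat.Coprime (2 ^ 3) c) (by norm_num)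
  obtain ⟨L, hLn, hLodd, hL, hCL⟩ := exists_psl_threeFive hK h8 hO hns
  by_cases h5 : 5 ∣ Nat.card L
  · exact exists_card_sixty_of_psl L hL h5
  -- otherwise the normaliser of a four-group
  haveI := hLn
  have h4L : 2 ^ 2 ∣ Nat.card L := by
    have h : 2 ^ 2 ∣ Nat.card L * L.index := by
      rw [L.card_mul_index, hG]; exact Dvd.dvd.mul_right (by norm_num) c
    exact ((Nat.coprime_two_left.2 hLodd).pow_left 2).dvd_of_dvd_mul_right h
  have h8L : ¬ 2 ^ 3 ∣ Nat.card L := fun h => h8 (h.trans (card_subgroup_dvd_card L))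
  obtain ⟨T⟩ : Nonempty (Sylow 2 L) := inferInstance
  set V := (T : Subgroup L).map L.subtype with hV
  have hVc : Nat.card V = 4 := by
    rw [hV, card_map_of_injective L.subtype_injective, card_sylow_two T (n := 2) h4L h8L]; norm_num
  obtain ⟨S, hS⟩ := (T.2.map L.subtype).exists_le_sylow
  have hSc : Nat.card S = 4 := card_sylow_two S (n := 2) (by rw [hG]; exact Dvd.dvd.mul_right (by norm_num) c) h8
  have hSV : (S : Subgroup G) = V := (Subgroup.eq_of_le_of_card_ge hS (by rw [hVc]; exact hSc.le)).symm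
  have hsol := isSolvable_normalizer S
    (IsPGroup.isMulCommutative_of_card_eq_prime_sq (p := 2) (hSc.trans (by norm_num)))
  obtain ⟨g, hg, hgo, hgC⟩ := exists_rotation S hSc hns
  set N := normalizer ((S : Subgroup G) : Set G) with hN
  have hidx : L.index ∣ Nat.card N := by
    have hsup : N ⊔ L = ⊤ := by
      rw [hN, hSV]; exact Sylow.normalizer_sup_eq_top T
    have h : L.relIndex (N ⊔ L) = L.relIndex N := relIndex_sup_right N L
    rw [hsup, relIndex_top_right] at h
    rw [h]
    exact relIndex_dvd_card L N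
  have h5N : 5 ∣ Nat.card N := by
    refine (((Nat.prime_five.dvd_mul).1 ?_).resolve_left h5).trans hidx
    rw [L.card_mul_index, hG]
    exact Dvd.dvd.mul_right (by norm_num) c
  have h12 : 12 ∣ Nat.card N := (show Nat.Coprime 4 3 by norm_num).mul_dvd_of_dvd_of_dvd
    (hSc.symm.dvd.trans (card_dvd_of_le le_normalizer)) (three_dvd_of_rotation hSc hg hgo hgC)
  exact exists_card_of_solvable N hG hc
    ((show Nat.Coprime 12 5 by norm_num).mul_dvd_of_dvd_of_dvd h12 h5N)

/-- The order 60. -/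
theorem exists_card_sixty (hK : SimpleKlein.{u}) {c : ℕ} (hG : Nat.card G = 60 * c)
    (hc : Nat.Coprime 60 c) : ∃ K : Subgroup G, Nat.card K = 60 := by
  haveI : Fact (Nat.Prime 2) := ⟨Nat.prime_two⟩
  by_cases hs : Group.IsSolvable G
  · haveI := hs
    exact CfsgLib.Solvable.Hall.exists_card_eq hG hc
  set O := Cfsg.oddCore G with hO
  have hodd : Odd (Nat.card O) := Nat.coprime_two_right.1 (CfsgLib.Solvable.Cores.coprime_card_pPrimeCore 2)
  have hker : Group.IsSolvable ↥(QuotientGroup.mk' O).ker := by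
    rw [QuotientGroup.ker_mk']; exact Cfsg.Agent.S0205.result hodd
  have hns : ¬ Group.IsSolvable (G ⧸ O) := fun h => hs (CfsgLib.Sectional.OddCoreA8.isSolvable_of_ker _ hker h)
  have hmul : Nat.card (G ⧸ O) * Nat.card O = 60 * c := (card_eq_card_quotient_mul_card_subgroup O).symm.trans hG
  have h4 : 4 ∣ Nat.card (G ⧸ O) :=
    (Nat.coprime_two_left.2 hodd |>.pow_left 2 : Nat.Coprime (2 ^ 2) _).dvd_of_dvd_mul_right
      (by rw [hmul]; exact Dvd.dvd.mul_right (by norm_num) c)
  have h8 : ¬ 8 ∣ Nat.card (G ⧸ O) := fun h => by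
    exact not_dvd_of_coprime
      ((hc.coprime_dvd_left (show 2 ∣ 60 by norm_num)).pow_left 3 : Nat.Coprime (2 ^ 3) c) (by norm_num)
      (hmul ▸ h.mul_right _)
  obtain ⟨H, hH, h12⟩ := exists_solvable_twelve h4 h8 hns
  have h3O : ¬ 3 ∣ Nat.card O := fun h => not_dvd_of_coprime
      ((hc.coprime_dvd_left (show 3 ∣ 60 by norm_num)).pow_left 2 : Nat.Coprime (3 ^ 2) c) (by norm_num)
      (hmul ▸ mul_dvd_mul ((show 3 ∣ 12 by norm_num).trans (h12.trans (card_subgroup_dvd_card H))) h)
  by_cases h5O : 5 ∣ Nat.card O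
  · haveI := isSolvable_comap (QuotientGroup.mk' O) hker H hH
    exact exists_card_of_solvable (H.comap (QuotientGroup.mk' O)) hG hc
      (by rw [card_comap_mk]; exact mul_dvd_mul h12 h5O)
  have hco : Nat.Coprime 60 (Nat.card O) :=
    Nat.Coprime.mul_left (Nat.Coprime.mul_left ((Nat.coprime_two_left.2 hodd).pow_left 2)
      (Nat.prime_three.coprime_iff_not_dvd.2 h3O)) (Nat.prime_five.coprime_iff_not_dvd.2 h5O)
  obtain ⟨c', hc'⟩ : 60 ∣ Nat.card (G ⧸ O) :=
    hco.dvd_of_dvd_mul_right (by rw [hmul]; exact dvd_mul_right 60 c)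
  have hcc : Nat.Coprime 60 c' := by
    refine hc.coprime_dvd_right ⟨Nat.card O, ?_⟩
    rw [hc', mul_assoc] at hmul
    exact (Nat.eq_of_mul_eq_mul_left (by norm_num) hmul).symm
  obtain ⟨K, hKc⟩ := exists_card_sixty_reduced hK
    CfsgLib.Coprime.OneClassInvolutions.pPrimeCore_quotient_self hc' hcc hns
  exact exists_card_of_quotient O hco hKc

end CfsgLib.GWKlein.Consumers.HallNumbers
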