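import Cfsg.Agent.Lib.GWKlein.Consumers.KleinGroups
import Cfsg.Agent.Lib.Solvable.Hall
import Mathlib.GroupTheory.SchurZassenhaus
import Mathlib.GroupTheory.Transfer

/-!
# Tools for Hall subgroups of small order

Lifting from quotients, Hall subgroups inside solvable subgroups, and normalisers of small
2-subgroups.
-/

set_option autoImplicit false
set_option linter.style.haveILetI false
set_option linter.unusedSectionVars false

namespace CfsgLib.GWKlein.Consumers.HallNumbers

open Subgroup

universe u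

variable {G : Type u} [Group G] [Finite G]

/-- Hall's theorem inside a solvable subgroup. -/
theorem exists_card_of_solvable (H : Subgroup G) [Group.IsSolvable H] {m c : ℕ}
    (hG : Nat.card G = m * c) (hc : m.Coprime c) (hm : m ∣ Nat.card H) :
    ∃ K : Subgroup G, Nat.card K = m := by
  obtain ⟨d, hd⟩ := hm
  have hpos : 0 < m := Nat.pos_of_ne_zero fun e => by
    rw [e, zero_mul] at hd
    exact Nat.card_pos.ne' hd
  have h1 : m * d ∣ m * c := by rw [← hd, ← hG]; exact card_subgroup_dvd_card H
  obtain ⟨K, hK⟩ := CfsgLib.Solvable.Hall.exists_card_eq hd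
    (hc.coprime_dvd_right (Nat.dvd_of_mul_dvd_mul_left hpos h1))
  exact ⟨K.map H.subtype, by rw [card_map_of_injective H.subtype_injective, hK]⟩

/-- The order of a preimage. -/
theorem card_comap_mk (N : Subgroup G) [N.Normal] (H : Subgroup (G ⧸ N)) :
    Nat.card (H.comap (QuotientGroup.mk' N)) = Nat.card H * Nat.card N := by
  have h1 := (H.comap (QuotientGroup.mk' N)).card_mul_index
  rw [index_comap_of_surjective _ (QuotientGroup.mk'_surjective N),
    card_eq_card_quotient_mul_card_subgroup N, ← H.card_mul_index] at h1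
  refine Nat.eq_of_mul_eq_mul_right (Nat.pos_of_ne_zero (index_ne_zero_of_finite (H := H))) ?_
  rw [h1]; ring

/-- A preimage with solvable kernel of a solvable subgroup is solvable. -/
theorem isSolvable_comap {G' : Type*} [Group G'] (f : G →* G') (hk : Group.IsSolvable f.ker)
    (H : Subgroup G') (hH : Group.IsSolvable H) : Group.IsSolvable ↥(H.comap f) := by
  let φ : ↥(H.comap f) →* H := (f.comp (H.comap f).subtype).codRestrict H fun x => x.2
  refine CfsgLib.Sectional.OddCoreA8.isSolvable_of_ker φ ?_ hH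
  haveI := hk
  refine Group.isSolvable_of_isSolvable_injective
    (f := ((H.comap f).subtype.comp φ.ker.subtype).codRestrict f.ker fun x => congrArg Subtype.val (x.2 :)) ?_
  exact fun a b h => Subtype.ext (Subtype.ext (congrArg Subtype.val h :))

/-- A subgroup of order prime to the kernel lifts. -/
theorem exists_card_of_quotient (N : Subgroup G) [N.Normal] {m : ℕ} (hco : m.Coprime (Nat.card N))
    {H : Subgroup (G ⧸ N)} (hH : Nat.card H = m) : ∃ K : Subgroup G, Nat.card K = m := by
  set P := H.comap (QuotientGroup.mk' N) with hP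
  have hNP : N ≤ P := fun x hx => by
    rw [hP, mem_comap, show (QuotientGroup.mk' N) x = 1 from (QuotientGroup.eq_one_iff x).2 hx]
    exact one_mem _
  have hcard : Nat.card (N.subgroupOf P) = Nat.card N :=
    Nat.card_congr (subgroupOfEquivOfLe hNP).toEquiv
  have hidx : (N.subgroupOf P).index = m := by
    have h1 := (N.subgroupOf P).card_mul_index
    rw [hcard, hP, card_comap_mk, hH] at h1
    exact Nat.eq_of_mul_eq_mul_left Nat.card_pos (h1.trans (mul_comm _ _))
  obtain ⟨K, hK⟩ := exists_right_complement'_of_coprime (N := N.subgroupOf P)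
    (by rw [hcard, hidx]; exact hco.symm)
  refine ⟨K.map P.subtype, ?_⟩
  rw [card_map_of_injective P.subtype_injective]
  exact Nat.eq_of_mul_eq_mul_left (Nat.card_pos (α := N.subgroupOf P))
    (by rw [hK.card_mul_card, ← (N.subgroupOf P).card_mul_index, hidx])

/-- The order of a Sylow 2-subgroup. -/
theorem card_sylow_two (S : Sylow 2 G) {n : ℕ} (h : 2 ^ n ∣ Nat.card G)
    (h' : ¬ 2 ^ (n + 1) ∣ Nat.card G) : Nat.card S = 2 ^ n := by
  haveI : Fact (Nat.Prime 2) := ⟨Nat.prime_two⟩
  obtain ⟨k, hk⟩ := S.2.exists_card_eq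
  have h1 : 2 ^ n ∣ 2 ^ k := hk ▸ S.pow_dvd_card_of_pow_dvd_card h
  have h2 : k ≤ n := by
    by_contra hlt
    exact h' (((pow_dvd_pow 2 (show n + 1 ≤ k by omega)).trans (dvd_of_eq hk.symm)).trans
      (card_subgroup_dvd_card _))
  exact hk.trans (by rw [le_antisymm h2 ((Nat.pow_dvd_pow_iff_le_right (by norm_num)).1 h1)])

/-- The normaliser of an abelian Sylow 2-subgroup is solvable. -/
theorem isSolvable_normalizer (S : Sylow 2 G) (hS : IsMulCommutative ↥(S : Subgroup G)) :
    Group.IsSolvable ↥(normalizer ((S : Subgroup G) : Set G)) := by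
  haveI : Fact (Nat.Prime 2) := ⟨Nat.prime_two⟩
  set N := normalizer ((S : Subgroup G) : Set G) with hN
  have hSN : (S : Subgroup G) ≤ N := le_normalizer
  haveI : ((S : Subgroup G).subgroupOf N).Normal := normal_in_normalizer
  have h1 : Group.IsSolvable ↥((S : Subgroup G).subgroupOf N) := Group.isSolvable_of_comm fun a b =>
    Subtype.ext (Subtype.ext (congrArg Subtype.val
      (hS.is_comm.comm ⟨_, mem_subgroupOf.1 a.2⟩ ⟨_, mem_subgroupOf.1 b.2⟩) :))
  refine CfsgLib.Sectional.OddCoreA8.isSolvable_of_ker (QuotientGroup.mk' ((S : Subgroup G).subgroupOf N))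
    (by rw [QuotientGroup.ker_mk']; exact h1) (Cfsg.Agent.S0205.result ?_)
  refine Nat.not_even_iff_odd.1 fun he => S.not_dvd_index ?_
  rw [← index_eq_card] at he
  exact (even_iff_two_dvd.1 he).trans (relIndex_dvd_index_of_le hSN)

/-- With a Sylow 2-subgroup central in its normaliser the group is solvable. -/
theorem isSolvable_of_central (S : Sylow 2 G)
    (h : normalizer ((S : Subgroup G) : Set G) ≤ centralizer ((S : Subgroup G) : Set G)) :
    Group.IsSolvable G := by
  haveI : Fact (Nat.Prime 2) := ⟨Nat.prime_two⟩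
  haveI : Group.IsNilpotent ↥(S : Subgroup G) := S.2.isNilpotent
  refine CfsgLib.Sectional.OddCoreA8.isSolvable_of_ker (MonoidHom.transferSylow S h) ?_ inferInstance
  have hc := MonoidHom.ker_transferSylow_isComplement' S h
  refine Cfsg.Agent.S0205.result (Nat.not_even_iff_odd.1 fun he => S.not_dvd_index ?_)
  rw [hc.index_eq_card]
  exact even_iff_two_dvd.1 he

/-- `|Aut A|` divides `(|A| - 1)!`. -/
theorem card_mulAut_dvd (A : Type*) [Group A] [Finite A] :
    Nat.card (MulAut A) ∣ Nat.factorial (Nat.card A - 1) := by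
  classical
  haveI := Fintype.ofFinite A
  let f : MulAut A →* Equiv.Perm {x : A // x ≠ 1} :=
    { toFun := fun φ => φ.toEquiv.subtypeEquiv fun x => by simp
      map_one' := Equiv.ext fun _ => rfl
      map_mul' := fun _ _ => Equiv.ext fun _ => rfl }
  have hf : Function.Injective f := fun φ ψ h => MulEquiv.ext fun x => by
    by_cases hx : x = 1
    · rw [hx, map_one, map_one]
    · exact congrArg Subtype.val (Equiv.congr_fun h ⟨x, hx⟩)
  refine (Subgroup.card_dvd_of_injective f hf).trans ?_
  rw [Nat.card_perm, Nat.card_eq_fintype_card, Nat.card_eq_fintype_card,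
    Fintype.card_subtype_compl, Fintype.card_subtype_eq]

/-- An element of odd order that rotates a group of order 4 gives the prime 3 in the normaliser. -/
theorem three_dvd_of_rotation {Q : Subgroup G} (hQ : Nat.card Q = 4) {g : G}
    (hg : g ∈ normalizer (Q : Set G)) (hodd : Odd (orderOf g))
    (hgC : g ∉ centralizer (Q : Set G)) : 3 ∣ Nat.card ↥(normalizer (Q : Set G)) := by
  set φ := Q.normalizerMonoidHom
  have h1 : orderOf (φ ⟨g, hg⟩) ∣ 6 := by
    have := (orderOf_dvd_natCard (φ ⟨g, hg⟩)).trans (card_mulAut_dvd Q)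
    rwa [hQ] at this
  have h2 : orderOf (φ ⟨g, hg⟩) ∣ orderOf g := by
    rw [← Subgroup.orderOf_mk g hg]; exact orderOf_map_dvd φ _
  have h3 : orderOf (φ ⟨g, hg⟩) ≠ 1 := fun h => by
    rw [orderOf_eq_one_iff, ← MonoidHom.mem_ker, normalizerMonoidHom_ker, mem_subgroupOf] at h
    exact hgC h
  have h6 : orderOf (φ ⟨g, hg⟩) ≤ 6 := Nat.le_of_dvd (by norm_num) h1
  have h4 : Odd (orderOf (φ ⟨g, hg⟩)) := hodd.of_dvd_nat h2
  have h5 : orderOf (φ ⟨g, hg⟩) = 3 := by
    rcases h4 with ⟨k, hk⟩
    rw [hk] at h1 h3 h6 ⊢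
    have : k ≤ 2 := by omega
    interval_cases k <;> omega
  exact h5 ▸ (orderOf_map_dvd φ _).trans (orderOf_dvd_natCard _)

/-- A non-solvable group has a rotation of a Sylow 2-subgroup of order 4. -/
theorem exists_rotation (S : Sylow 2 G) (hS : Nat.card S = 4) (hns : ¬ Group.IsSolvable G) :
    ∃ g ∈ normalizer ((S : Subgroup G) : Set G), Odd (orderOf g) ∧
      g ∉ centralizer ((S : Subgroup G) : Set G) := by
  haveI : Fact (Nat.Prime 2) := ⟨Nat.prime_two⟩
  obtain ⟨n, hnN, hnC⟩ := SetLike.not_le_iff_exists.1 fun h => hns (isSolvable_of_central S h)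
  haveI hcom : IsMulCommutative ↥(S : Subgroup G) :=
    IsPGroup.isMulCommutative_of_card_eq_prime_sq (p := 2) (hS.trans (by norm_num))
  set N := normalizer ((S : Subgroup G) : Set G) with hN
  set K := (centralizer ((S : Subgroup G) : Set G)).subgroupOf N with hK
  haveI : K.Normal := by rw [hK, ← normalizerMonoidHom_ker]; infer_instance
  have hSC : (S : Subgroup G) ≤ centralizer ((S : Subgroup G) : Set G) := fun s hs =>
    mem_centralizer_iff.2 fun x hx => congrArg Subtype.val (hcom.is_comm.comm ⟨x, hx⟩ ⟨s, hs⟩)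
  have hKodd : Odd K.index := Nat.not_even_iff_odd.1 fun he => S.not_dvd_index
    ((even_iff_two_dvd.1 he).trans (((index_dvd_of_le (show (S : Subgroup G).subgroupOf N ≤ K from
      fun x hx => hSC hx)).trans (relIndex_dvd_index_of_le le_normalizer))))
  have ho : orderOf n ≠ 0 := (orderOf_pos n).ne'
  refine ⟨n ^ (2 ^ (orderOf n).factorization 2), pow_mem hnN _, ?_, fun hC => hnC ?_⟩
  · rw [orderOf_pow_of_dvd (pow_ne_zero _ two_ne_zero) (Nat.ordProj_dvd _ _)]
    exact Nat.not_even_iff_odd.1 fun he => Nat.not_dvd_ordCompl Nat.prime_two ho (even_iff_two_dvd.1 he)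
  · let x : N ⧸ K := QuotientGroup.mk ⟨n, hnN⟩
    have h1 : x ^ (2 ^ (orderOf n).factorization 2) = 1 := by
      rw [← QuotientGroup.mk_pow, QuotientGroup.eq_one_iff, hK, mem_subgroupOf]
      exact hC
    have h2 : orderOf x ∣ 2 ^ (orderOf n).factorization 2 := orderOf_dvd_of_pow_eq_one h1
    have h3 : Odd (orderOf x) := hKodd.of_dvd_nat ((orderOf_dvd_natCard x).trans (index_eq_card K).symm.dvd)
    have h4 : orderOf x = 1 := Nat.eq_one_of_dvd_coprimes ((Nat.coprime_two_right.2 h3).pow_right _)
      dvd_rfl h2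
    have h5 := orderOf_eq_one_iff.1 h4
    rwa [QuotientGroup.eq_one_iff, hK, mem_subgroupOf] at h5

/-- A non-solvable group of order `4k`, `k` odd, has a solvable subgroup of order divisible by 12. -/
theorem exists_solvable_twelve (h4 : 4 ∣ Nat.card G) (h8 : ¬ 8 ∣ Nat.card G)
    (hns : ¬ Group.IsSolvable G) :
    ∃ H : Subgroup G, Group.IsSolvable H ∧ 12 ∣ Nat.card H := by
  haveI : Fact (Nat.Prime 2) := ⟨Nat.prime_two⟩
  obtain ⟨S⟩ : Nonempty (Sylow 2 G) := inferInstance
  have hS : Nat.card S = 4 := card_sylow_two S (n := 2) h4 h8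
  obtain ⟨g, hg, hodd, hgC⟩ := exists_rotation S hS hns
  refine ⟨_, isSolvable_normalizer S (IsPGroup.isMulCommutative_of_card_eq_prime_sq (p := 2)
    (hS.trans (by norm_num))), ?_⟩
  exact (show Nat.Coprime 4 3 by norm_num).mul_dvd_of_dvd_of_dvd
    (hS.symm.dvd.trans (card_dvd_of_le le_normalizer)) (three_dvd_of_rotation hS hg hodd hgC)

end CfsgLib.GWKlein.Consumers.HallNumbers
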